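import Mathlib
import Groth.Prelude.Def_Pi1
import Groth.Agent.Lib.Helper4.ZMTBirational
import Groth.Agent.Lib.Helper4.NormalizationField1

/-!
# Finiteness of the normalization of a normal Noetherian integral scheme in a finite separable
extension of its function field (helper2)
-/

set_option autoImplicit false
set_option backward.isDefEq.respectTransparency.types false
set_option synthInstance.maxHeartbeats 400000
set_option maxHeartbeats 4000000
set_option linter.style.haveILetI false
set_option linter.unusedSectionVars false
set_option linter.unusedVariables false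

universe u
open CategoryTheory CategoryTheory.Limits AlgebraicGeometry TopologicalSpace

namespace Groth.Agent.Helper2.NormFin

/-- algebra: the integral closure in a ring isomorphic to a finite separable extension of the
fraction field is finite -/
theorem finite_integralClosure_of_ringEquiv (A K L L' : Type u) [CommRing A] [IsDomain A]
    [IsIntegrallyClosed A] [IsNoetherianRing A] [Field K] [Algebra A K] [IsFractionRing A K]
    [Field L] [Algebra K L] [FiniteDimensional K L] [Algebra.IsSeparable K L] [CommRing L']
    [Algebra A L'] (e : L' ≃+* L)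
    (he : ∀ a : A, e (algebraMap A L' a) = algebraMap K L (algebraMap A K a)) :
    Module.Finite A (integralClosure A L') := by
  letI : Algebra A L := ((algebraMap K L).comp (algebraMap A K)).toAlgebra
  haveI : IsScalarTower A K L := IsScalarTower.of_algebraMap_eq (fun a => rfl)
  let e' : L' ≃ₐ[A] L := { e with commutes' := fun a => he a }
  haveI : Module.Finite A (integralClosure A L) :=
    IsIntegralClosure.finite A K L (integralClosure A L)
  exact Module.Finite.equiv (e'.mapIntegralClosure).symm.toLinearEquiv

variable {X : Scheme.{u}} [IsIntegral X] (L : Type u) [Field L] [Algebra X.functionField L]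

/-- the canonical morphism `Spec L ⟶ X` -/
noncomputable abbrev hL : Spec (CommRingCat.of L) ⟶ X :=
  Spec.map (CommRingCat.ofHom (algebraMap X.functionField L)) ≫ X.fromSpecStalk (genericPoint X)

theorem hL_apply (t : Spec (CommRingCat.of L)) : (hL (X := X) L) t = genericPoint X := by
  change X.fromSpecStalk (genericPoint X) _ = _
  exact Groth.Agent.Lib.Helper4.NormalizationField1.fromSpecStalk_genericPoint_apply X _

theorem preimage_eq_top (U : X.Opens) (hU : genericPoint X ∈ U) : (hL (X := X) L) ⁻¹ᵁ U = ⊤ := by
  ext t
  simp only [Opens.coe_top, Set.mem_univ, iff_true]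
  change (hL (X := X) L) t ∈ U
  rw [hL_apply]
  exact hU

/-- the map from sections of `Spec L` over the preimage of an open containing the generic point
to `L` -/
noncomputable def secHom (U : X.Opens) (hU : genericPoint X ∈ U) :
    Γ(Spec (CommRingCat.of L), (hL (X := X) L) ⁻¹ᵁ U) ⟶ CommRingCat.of L :=
  (Spec (CommRingCat.of L)).presheaf.map (homOfLE (preimage_eq_top L U hU).ge).op ≫
    (Scheme.ΓSpecIso (CommRingCat.of L)).hom

instance (U : X.Opens) (hU : genericPoint X ∈ U) : IsIso (secHom L U hU) := by
  unfold secHom
  have : IsIso ((Spec (CommRingCat.of L)).presheaf.map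
      (homOfLE (preimage_eq_top L U hU).ge).op) := by
    have h1 : (homOfLE (preimage_eq_top L U hU).ge) =
        eqToHom (preimage_eq_top L U hU).symm := Subsingleton.elim _ _
    rw [h1]
    infer_instance
  infer_instance

/-- sections of `Spec L` over the preimage of an open containing the generic point are `L` -/
noncomputable def secEquiv (U : X.Opens) (hU : genericPoint X ∈ U) :
    Γ(Spec (CommRingCat.of L), (hL (X := X) L) ⁻¹ᵁ U) ≃+* L :=
  (asIso (secHom L U hU)).commRingCatIsoToRingEquiv

theorem secEquiv_app (U : X.Opens) [Nonempty U] (hU : genericPoint X ∈ U) (a : Γ(X, U)) :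
    secEquiv L U hU (((hL (X := X) L).app U).hom a) =
      algebraMap X.functionField L (X.germToFunctionField U a) := by
  have key : (hL (X := X) L).app U ≫ secHom L U hU =
      X.presheaf.germ U (genericPoint X) hU ≫
        CommRingCat.ofHom (algebraMap X.functionField L) := by
    unfold secHom
    rw [← Category.assoc, ← Scheme.Hom.appLE, Scheme.Hom.comp_appLE,
      Scheme.fromSpecStalk_app hU]
    simp only [Category.assoc]
    rw [Scheme.Hom.map_appLE_assoc]
    have h4 : (Spec.map (CommRingCat.ofHom (algebraMap X.functionField L))).appLE ⊤ ⊤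
        (le_top.trans (le_of_eq rfl)) =
        (Spec.map (CommRingCat.ofHom (algebraMap X.functionField L))).appTop :=
      Scheme.Hom.appLE_eq_app _
    erw [h4]
    rw [Scheme.ΓSpecIso_naturality]
    have h5 : (Scheme.ΓSpecIso (X.presheaf.stalk (genericPoint X))).inv ≫
        (Scheme.ΓSpecIso (CommRingCat.of X.functionField)).hom = 𝟙 _ :=
      Iso.inv_hom_id (Scheme.ΓSpecIso (X.presheaf.stalk (genericPoint X)))
    erw [reassoc_of% h5]
    rfl
  have := congrArg (fun φ => φ.hom a) key
  exact this

theorem finite_main [IsNoetherian X] (hX : Pi1.IsNormalScheme X)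
    [FiniteDimensional X.functionField L] [Algebra.IsSeparable X.functionField L]
    [QuasiCompact (hL (X := X) L)] [QuasiSeparated (hL (X := X) L)] :
    IsFinite (hL (X := X) L).fromNormalization := by
  refine ⟨fun U hU => ?_⟩
  rw [Scheme.Hom.fromNormalization_app _ hU]
  letI := ((hL (X := X) L).app U).hom.toAlgebra
  suffices hfin : Module.Finite Γ(X, U)
      (integralClosure Γ(X, U) Γ(Spec (CommRingCat.of L), (hL (X := X) L) ⁻¹ᵁ U)) by
    rw [CommRingCat.hom_comp]
    refine RingHom.Finite.comp (RingHom.Finite.of_surjective _ ?_) ?_
    · exact ((hL (X := X) L).normalizationObjIso hU).symm.commRingCatIsoToRingEquiv.surjective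
    · exact RingHom.finite_algebraMap.mpr hfin
  by_cases hne : Nonempty U
  · have hgen : genericPoint X ∈ U := by
      obtain ⟨⟨x, hx⟩⟩ := hne
      exact ((genericPoint_spec X).mem_open_set_iff U.isOpen).mpr ⟨x, trivial, hx⟩
    haveI : IsNoetherianRing Γ(X, U) := IsLocallyNoetherian.component_noetherian ⟨U, hU⟩
    haveI : IsIntegrallyClosed Γ(X, U) :=
      Groth.Agent.Lib.Helper4.ZMTBirational.isIntegrallyClosed_sections (fun y => (hX y).2) hU
    haveI := functionField_isFractionRing_of_isAffineOpen X U hU
    exact finite_integralClosure_of_ringEquiv Γ(X, U) X.functionField L _ (secEquiv L U hgen)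
      (fun a => secEquiv_app L U hgen a)
  · have hbot : U = ⊥ := by
      ext x
      simp only [Opens.coe_bot, Set.mem_empty_iff_false, iff_false]
      exact fun hx => hne ⟨⟨x, hx⟩⟩
    subst hbot
    haveI : Subsingleton Γ(Spec (CommRingCat.of L), (hL (X := X) L) ⁻¹ᵁ ⊥) :=
      (inferInstance : Subsingleton Γ(Spec (CommRingCat.of L), ⊥))
    infer_instance

end Groth.Agent.Helper2.NormFin
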