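import Mathlib
import Groth.Agent.Lib.Helper4.ZMTBirational
import Groth.Agent.Lib.Helper4.NormalizationField3
import Groth.Agent.Lib.Helper7.GeomConn.NormalGlue

/-!
# The canonical morphism to the relative normalization from a normal integral scheme along a
locally quasi-finite morphism is a local isomorphism (helper2)
-/

set_option autoImplicit false
set_option backward.isDefEq.respectTransparency.types false
set_option synthInstance.maxHeartbeats 400000
set_option maxHeartbeats 4000000
set_option linter.style.haveILetI false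
set_option linter.unusedSectionVars false
set_option linter.unusedVariables false

universe u
open CategoryTheory CategoryTheory.Limits AlgebraicGeometry TopologicalSpace

namespace Groth.Agent.Helper2.NormFin

open Groth.Agent.Lib.Helper4.ZMTBirational Groth.Agent.Lib.Helper4.NormalizationField3 in
theorem isOpenImmersion_ι_toNormalization {X Y : Scheme.{u}} [IsIntegral X]
    (hN : ∀ x : X, IsIntegrallyClosed (X.presheaf.stalk x)) (f : X ⟶ Y)
    [LocallyQuasiFinite f] [LocallyOfFiniteType f] [QuasiCompact f] [QuasiSeparated f]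
    {V : Y.Opens} (hV : IsAffineOpen V) {U : X.Opens} (hU : IsAffineOpen U) (hUV : U ≤ f ⁻¹ᵁ V)
    [Nonempty U] : IsOpenImmersion (U.ι ≫ f.toNormalization) := by
  haveI : Nonempty (f ⁻¹ᵁ V : X.Opens) := ⟨⟨(Classical.arbitrary U).1, hUV (Classical.arbitrary U).2⟩⟩
  have hW' : IsAffineOpen (f.fromNormalization ⁻¹ᵁ V) := hV.preimage f.fromNormalization
  have hUW' : U ≤ f.toNormalization ⁻¹ᵁ f.fromNormalization ⁻¹ᵁ V :=
    hUV.trans (toNormalization_preimage_le f V)
  haveI : LocallyOfFiniteType (f.toNormalization ≫ f.fromNormalization) := by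
    rw [Scheme.Hom.toNormalization_fromNormalization]; infer_instance
  haveI : LocallyQuasiFinite (f.toNormalization ≫ f.fromNormalization) := by
    rw [Scheme.Hom.toNormalization_fromNormalization]; infer_instance
  haveI : LocallyOfFiniteType f.toNormalization :=
    locallyOfFiniteType_of_comp f.toNormalization f.fromNormalization
  haveI : LocallyQuasiFinite f.toNormalization :=
    LocallyQuasiFinite.of_comp f.toNormalization f.fromNormalization
  let ρ := f.toNormalization.appLE (f.fromNormalization ⁻¹ᵁ V) (f ⁻¹ᵁ V)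
    (toNormalization_preimage_le f V)
  let φ' := f.toNormalization.appLE (f.fromNormalization ⁻¹ᵁ V) U hUW'
  have hφ' : φ' = ρ ≫ X.presheaf.map (homOfLE hUV).op :=
    (Scheme.Hom.appLE_map _ _ _).symm
  haveI : LocallyQuasiFinite (Spec.map φ') :=
    HasRingHomProperty.Spec_iff.mpr (LocallyQuasiFinite.quasiFinite_appLE hW' hU hUW')
  haveI : LocallyOfFiniteType (Spec.map φ') :=
    HasRingHomProperty.Spec_iff.mpr (f.toNormalization.finiteType_appLE hW' hU hUW')
  -- germs
  have hgermres : ∀ b : Γ(X, f ⁻¹ᵁ V), (X.germToFunctionField U).hom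
      ((X.presheaf.map (homOfLE hUV).op).hom b) = (X.germToFunctionField (f ⁻¹ᵁ V)).hom b := by
    intro b
    exact congrArg (fun ψ : Γ(X, f ⁻¹ᵁ V) ⟶ X.functionField => ψ.hom b)
      (X.presheaf.germ_res (homOfLE hUV) (genericPoint X) _)
  have hresinj : Function.Injective (X.presheaf.map (homOfLE hUV).op).hom := by
    intro b₁ b₂ h12
    apply X.germToFunctionField_injective (f ⁻¹ᵁ V)
    change (X.germToFunctionField (f ⁻¹ᵁ V)).hom b₁ = (X.germToFunctionField (f ⁻¹ᵁ V)).hom b₂
    rw [← hgermres, ← hgermres, h12]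
  have hρinj : Function.Injective ρ.hom := by
    letI := (f.app V).hom.toAlgebra
    have h1 := f.normalizationObjIso_hom_val hV
    have hρ : ∀ a, ρ.hom a = ((f.normalizationObjIso hV).hom.hom a : Γ(X, f ⁻¹ᵁ V)) :=
      fun a => (congrArg (fun ψ => ψ.hom a) h1).symm
    intro a₁ a₂ h
    rw [hρ, hρ] at h
    exact (f.normalizationObjIso hV).commRingCatIsoToRingEquiv.injective (Subtype.ext h)
  have hinj : Function.Injective φ'.hom := by
    rw [hφ', CommRingCat.hom_comp]
    exact hresinj.comp hρinj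
  -- integral elements
  have hint : ∀ c : Γ(X, U), φ'.hom.IsIntegralElem c → ∃ a, φ'.hom a = c := by
    intro c hc
    letI algAA' : Algebra Γ(Y, V) Γ(f.normalization, f.fromNormalization ⁻¹ᵁ V) :=
      (f.fromNormalization.app V).hom.toAlgebra
    letI algA'C : Algebra Γ(f.normalization, f.fromNormalization ⁻¹ᵁ V) Γ(X, U) :=
      φ'.hom.toAlgebra
    letI algAC : Algebra Γ(Y, V) Γ(X, U) := (f.appLE V U hUV).hom.toAlgebra
    letI algAB : Algebra Γ(Y, V) Γ(X, f ⁻¹ᵁ V) := (f.app V).hom.toAlgebra
    letI algBC : Algebra Γ(X, f ⁻¹ᵁ V) Γ(X, U) := (X.presheaf.map (homOfLE hUV).op).hom.toAlgebra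
    haveI : IsScalarTower Γ(Y, V) Γ(f.normalization, f.fromNormalization ⁻¹ᵁ V) Γ(X, U) := by
      apply IsScalarTower.of_algebraMap_eq'
      simp only [RingHom.algebraMap_toAlgebra]
      rw [← CommRingCat.hom_comp, Scheme.Hom.app_eq_appLE, Scheme.Hom.appLE_comp_appLE]
      congr 2
      exact f.toNormalization_fromNormalization.symm
    haveI : IsScalarTower Γ(Y, V) Γ(X, f ⁻¹ᵁ V) Γ(X, U) := by
      apply IsScalarTower.of_algebraMap_eq'
      simp only [RingHom.algebraMap_toAlgebra]
      rw [← CommRingCat.hom_comp, Scheme.Hom.app_eq_appLE, Scheme.Hom.appLE_map]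
    haveI : IsScalarTower Γ(X, f ⁻¹ᵁ V) Γ(X, U) X.functionField := by
      apply IsScalarTower.of_algebraMap_eq
      intro b
      exact (hgermres b).symm
    letI algAK : Algebra Γ(Y, V) X.functionField :=
      ((algebraMap Γ(X, U) X.functionField).comp (algebraMap Γ(Y, V) Γ(X, U))).toAlgebra
    haveI : IsScalarTower Γ(Y, V) Γ(X, U) X.functionField := IsScalarTower.of_algebraMap_eq' rfl
    haveI : IsScalarTower Γ(Y, V) Γ(X, f ⁻¹ᵁ V) X.functionField := by
      apply IsScalarTower.of_algebraMap_eq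
      intro a
      rw [IsScalarTower.algebraMap_apply Γ(Y, V) Γ(X, U) X.functionField,
        IsScalarTower.algebraMap_apply Γ(Y, V) Γ(X, f ⁻¹ᵁ V) Γ(X, U),
        ← IsScalarTower.algebraMap_apply Γ(X, f ⁻¹ᵁ V) Γ(X, U) X.functionField]
    haveI : Algebra.IsIntegral Γ(Y, V) Γ(f.normalization, f.fromNormalization ⁻¹ᵁ V) :=
      algebraMap_isIntegral_iff.mp (IsIntegralHom.isIntegral_app f.fromNormalization V hV)
    have hcA : IsIntegral Γ(Y, V) c := isIntegral_trans c hc
    have htA : IsIntegral Γ(Y, V) (algebraMap Γ(X, U) X.functionField c) := hcA.algebraMap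
    have htB : IsIntegral Γ(X, f ⁻¹ᵁ V) (algebraMap Γ(X, U) X.functionField c) := htA.tower_top
    obtain ⟨b₀, hb₀⟩ := Groth.Agent.Helper7.GeomConn.NG.exists_section_of_isIntegral hN
      (f ⁻¹ᵁ V) _ htB
    have hb₀A : IsIntegral Γ(Y, V) b₀ := by
      rw [← isIntegral_algebraMap_iff (B := X.functionField)
        (X.germToFunctionField_injective (f ⁻¹ᵁ V))]
      change IsIntegral Γ(Y, V) ((X.germToFunctionField (f ⁻¹ᵁ V)).hom b₀)
      rw [hb₀]
      exact htA
    obtain ⟨a', ha'⟩ := exists_section_normalization_of_isIntegral f hV b₀ hb₀A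
    refine ⟨a', ?_⟩
    rw [hφ', CommRingCat.hom_comp, RingHom.comp_apply]
    change (X.presheaf.map (homOfLE hUV).op).hom (ρ.hom a') = c
    rw [ha']
    apply X.germToFunctionField_injective U
    change (X.germToFunctionField U).hom _ = (X.germToFunctionField U).hom c
    rw [hgermres, hb₀]
    rfl
  have hoi : IsOpenImmersion (Spec.map φ') := isOpenImmersion_SpecMap_of_integral_elems φ' hinj hint
  have : U.ι ≫ f.toNormalization = hU.isoSpec.hom ≫ Spec.map φ' ≫ hW'.fromSpec := by
    rw [IsAffineOpen.SpecMap_appLE_fromSpec f.toNormalization hW' hU hUW', ← Category.assoc,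
      hU.isoSpec_hom_fromSpec]
  rw [this]; infer_instance

theorem S4810_main {X Y : Scheme.{u}} [IsIntegral X] [IsIntegral Y]
    (hN : ∀ x : X, IsIntegrallyClosed (X.presheaf.stalk x)) (f : X ⟶ Y) [IsDominant f]
    [LocallyQuasiFinite f] [LocallyOfFiniteType f] [QuasiCompact f] [QuasiSeparated f] :
    IsLocalIso f.toNormalization ∧ (IsOpenImmersion f.toNormalization ↔ IsSeparated f) := by
  refine ⟨⟨fun x => ?_⟩, ⟨fun h => ?_, fun h => inferInstance⟩⟩
  · obtain ⟨V, hV, hfxV, -⟩ := exists_isAffineOpen_mem_and_subset (x := f x) (U := ⊤) trivial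
    obtain ⟨U, hU, hxU, hUV⟩ := exists_isAffineOpen_mem_and_subset (x := x) (U := f ⁻¹ᵁ V) hfxV
    haveI : Nonempty U := ⟨⟨x, hxU⟩⟩
    exact ⟨U, hxU, isOpenImmersion_ι_toNormalization hN f hV hU hUV⟩
  · rw [← f.toNormalization_fromNormalization]
    infer_instance

end Groth.Agent.Helper2.NormFin
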